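import Groth.Agent.ValVan29.PushTwist
import Groth.Agent.H98EqInt.Normal
import Groth.Prelude.Def_ClSub2

/-!
Morphisms with `f_* O_X = O_Y`.
-/

set_option autoImplicit false
set_option maxHeartbeats 400000

universe u

open CategoryTheory CategoryTheory.Limits AlgebraicGeometry TopologicalSpace

namespace Groth.Agent.H98Pos

open Var76.LineBundle Var76.ZeroScheme Amp73

variable {X Y : Scheme.{u}} (f : X ⟶ Y)

theorem app_bijective (hfs : IsIso (ClSub.unitToPush f)) (U : Y.Opens) : Function.Bijective (f.app U) := by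
  have h : IsIso ((ClSub.unitToPush f).app U) :=
    Scheme.Modules.Hom.isIso_iff_isIso_app.1 hfs U
  exact (ConcreteCategory.isIso_iff_bijective ((ClSub.unitToPush f).app U)).1 h

theorem isIso_unit_of_isInvertible (hfs : IsIso (ClSub.unitToPush f)) {L : Y.Modules}
    (hL : PicF.IsInvertible L) : IsIso ((Scheme.Modules.pullbackPushforwardAdjunction f).unit.app L) := by
  refine ValVan29.isIso_of_bijective_small _ fun y => ?_
  obtain ⟨W, hyW, -, e, he⟩ := Mero90.exists_affine_frame hL y ⊤ trivial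
  refine ⟨W.1, hyW, fun V hV => ?_⟩
  have h1 := isFrame_pullS f hL (he.res hV)
  have key : ∀ a : Γ(Y, V), pullS f L V (a • res L hV e) = f.app V a • pullS f L V (res L hV e) :=
    fun a => pullS_smul f L V a _
  have hb := (h1 (f ⁻¹ᵁ V) le_rfl).comp (app_bijective f hfs V)
  have he' := he V hV
  refine (Function.Bijective.of_comp_iff (g := fun a : Γ(Y, V) => a • res L hV e) _ he').mp ?_
  show Function.Bijective fun a : Γ(Y, V) => pullS f L V (a • res L hV e)
  simp only [key]
  rw [res_self] at hb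
  exact hb

theorem isNormalScheme_of_fibreSpace [IsIntegral X] [IsIntegral Y] (hfs : IsIso (ClSub.unitToPush f))
    (hX : Pi1.IsNormalScheme X) : Pi1.IsNormalScheme Y := by
  refine (Props58.isNormalScheme_iff Y).mpr fun U hUne hU => ?_
  have hbij := app_bijective f hfs U
  have hVne : Nonempty (f ⁻¹ᵁ U) := by
    by_contra hemp
    have hbot : f ⁻¹ᵁ U = ⊥ := by
      ext z
      exact ⟨fun hz => hemp ⟨⟨z, hz⟩⟩, fun hz => hz.elim⟩
    haveI : Subsingleton Γ(X, f ⁻¹ᵁ U) := by rw [hbot]; infer_instance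
    exact not_subsingleton Γ(Y, U) (hbij.1.subsingleton)
  refine (isIntegrallyClosed_iff (FractionRing Γ(Y, U))).mpr fun {z} hz => ?_
  obtain ⟨p, q, hq, rfl⟩ := IsFractionRing.div_surjective (A := Γ(Y, U)) z
  have hq0 : q ≠ 0 := nonZeroDivisors.ne_zero hq
  obtain ⟨g, hg⟩ := H98EqInt.exists_section_mul_eq hX _ hVne (f.app U).hom hbij.1 p q hq0 hz
  obtain ⟨t, ht⟩ := hbij.2 g
  have hqt : q * t = p := hbij.1 (by rw [map_mul, ht]; exact hg)
  refine ⟨t, ?_⟩
  rw [← hqt, map_mul, mul_div_cancel_left₀]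
  exact fun h0 => hq0 ((IsFractionRing.injective _ _) (h0.trans (map_zero _).symm))

end Groth.Agent.H98Pos
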