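import Groth.Agent.Amp73.GlobGen
import Groth.Agent.Mero90.TensorLift
import Groth.Agent.An92.Ample.Inverse

/-!
Nonzero sections of invertible modules on integral schemes.
-/

set_option autoImplicit false
set_option maxHeartbeats 400000

universe u

open CategoryTheory CategoryTheory.Limits AlgebraicGeometry Opposite TopologicalSpace

noncomputable section

namespace Groth.Agent.H98Pos

open Var76.LineBundle Var76.ZeroScheme Amp73

variable {X : Scheme.{u}} {L M N : X.Modules}

/-- Tensoring a morphism with a module. -/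
def tensMap (φ : L ⟶ M) (N : X.Modules) : CohB1.tensorMod L N ⟶ CohB1.tensorMod M N :=
  Mero90.Pairing.lift
    { b := fun U m n => tm M N (φ.app U m) n
      add_left := fun U m m' n => by rw [map_add, tm_add_left]
      add_right := fun U m n n' => tm_add_right _ _ _
      smul_left := fun U r m n => by rw [Scheme.Modules.Hom.app_smul, tm_smul_left]
      smul_right := fun U r m n => tm_smul_right _ _ _
      nat := fun U V h m n => by rw [res_tm, Mero90.app_res] }

theorem tensMap_tm (φ : L ⟶ M) (N : X.Modules) (U : X.Opens) (m : Γ(L, U)) (n : Γ(N, U)) :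
    (tensMap φ N).app U (tm L N m n) = tm M N (φ.app U m) n :=
  Mero90.Pairing.lift_tmul _ U m n

/-- A morphism killing local frames is zero. -/
theorem eq_zero_of_frames (hL : PicF.IsInvertible L) (φ : L ⟶ M)
    (h : ∀ (W : X.Opens) (e : Γ(L, W)), IsFrame L W e → φ.app W e = 0) : φ = 0 := by
  refine Scheme.Modules.hom_ext _ _ fun U => ?_
  ext z
  refine eq_of_locally M _ _ fun y hy => ?_
  obtain ⟨W, hyW, hW, e, he⟩ := Mero90.exists_affine_frame hL y U hy
  refine ⟨W.1, hW, hyW, ?_⟩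
  obtain ⟨a, ha⟩ := (he W.1 le_rfl).2 (res L hW z)
  dsimp only at ha
  rw [res_self] at ha
  rw [show res M hW (φ.app U z) = φ.app W.1 (res L hW z) from (Mero90.app_res φ hW z).symm, ← ha,
    Scheme.Modules.Hom.app_smul, h _ e he, smul_zero]
  exact (map_zero _).symm

theorem tensMap_ne_zero (hL : PicF.IsInvertible L) (hM : PicF.IsInvertible M) (hN : PicF.IsInvertible N)
    {φ : L ⟶ M} (hφ : φ ≠ 0) : tensMap φ N ≠ 0 := by
  intro h0
  refine hφ (eq_zero_of_frames hL φ fun W e he => ?_)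
  refine eq_of_locally M _ _ fun y hy => ?_
  obtain ⟨V, hyV, hV, eM, heM⟩ := Mero90.exists_affine_frame hM y W hy
  obtain ⟨V', hyV', hV', eN, heN⟩ := Mero90.exists_affine_frame hN y V.1 hyV
  refine ⟨V'.1, hV'.trans hV, hyV', ?_⟩
  rw [← Mero90.app_res φ]
  obtain ⟨c, hc⟩ := (heM V'.1 hV').2 (φ.app V'.1 (res L (hV'.trans hV) e))
  dsimp only at hc
  have key : c • tm M N (res M hV' eM) eN = 0 := by
    rw [← tm_smul_left, hc, ← tensMap_tm, h0]
    rfl
  have hc0 : c = 0 := by
    refine ((isFrame_tm (heM.res hV') heN) V'.1 le_rfl).1 ?_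
    dsimp only
    rw [res_self, key, zero_smul]
  rw [← hc, hc0, zero_smul]
  exact (map_zero _).symm

variable [IsIntegral X]

theorem exists_mem_genLocus_of_ne_zero (hL : PicF.IsInvertible L) {s : Coh.structureModule X ⟶ L}
    (hs : s ≠ 0) : ∃ x, x ∈ CohB1.genLocus L s := by
  by_contra hcon
  push Not at hcon
  refine hs (eq_zero_of_frames EGA73.isInvertible_structureModule s fun W e he => ?_)
  refine eq_of_locally L _ _ fun y hy => ?_
  obtain ⟨V, hyV, hV, eL, heL⟩ := Mero90.exists_affine_frame hL y W hy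
  refine ⟨V.1, hV, hyV, ?_⟩
  rw [← Mero90.app_res s]
  obtain ⟨c, hc⟩ := exists_coord s heL
  have hc0 : c = 0 := by
    refine (basicOpen_eq_bot_iff c).1 ?_
    ext z
    refine ⟨fun hz => (hcon z ((genLocus_inf_eq_basicOpen s heL hc).ge hz).1).elim, fun hz => hz.elim⟩
  have hval : val L s V.1 = 0 := by rw [← hc, hc0, zero_smul]
  have e1 : res (Coh.structureModule X) hV e =
      (show Γ(X, V.1) from res (Coh.structureModule X) hV e) •
        ((1 : Γ(X, V.1)) : Γ(Coh.structureModule X, V.1)) := (mul_one (show Γ(X, V.1) from res (Coh.structureModule X) hV e)).symm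
  refine (congrArg (s.app V.1) e1).trans ((Scheme.Modules.Hom.app_smul s _ _).trans ?_)
  refine (congrArg (_ • ·) hval).trans ((smul_zero _).trans (map_zero _).symm)

omit [IsIntegral X] in
theorem ne_zero_of_mem_genLocus {s : Coh.structureModule X ⟶ L} {x : X}
    (hx : x ∈ CohB1.genLocus L s) : s ≠ 0 := by
  intro h0
  have hfr := isFrame_genLocus s
  have : Subsingleton Γ(X, CohB1.genLocus L s) := by
    refine ⟨fun a b => (hfr _ le_rfl).1 ?_⟩
    dsimp only
    have hz : val L s (CohB1.genLocus L s) = 0 := by rw [h0]; rfl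
    rw [hz, res_self, smul_zero, smul_zero]
  have hu : (1 : X.presheaf.stalk x) = 0 := by
    rw [← map_one (X.presheaf.germ (CohB1.genLocus L s) x hx).hom, Subsingleton.elim (1 : Γ(X, CohB1.genLocus L s)) 0,
      map_zero]
  exact one_ne_zero hu

/-- A module has a nonzero section. -/
def HasSec (M : X.Modules) : Prop := ∃ s : Coh.structureModule X ⟶ M, s ≠ 0

omit [IsIntegral X] in
theorem HasSec.of_mono {f : L ⟶ M} [Mono f] (h : HasSec L) : HasSec M := by
  obtain ⟨s, hs⟩ := h
  exact ⟨s ≫ f, fun h0 => hs ((cancel_mono f).1 (h0.trans zero_comp.symm))⟩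

theorem HasSec.tensor (hL : PicF.IsInvertible L) (hM : PicF.IsInvertible M) (h : HasSec L) (h' : HasSec M) :
    HasSec (CohB1.tensorMod L M) := by
  obtain ⟨s, hs⟩ := h
  obtain ⟨t, ht⟩ := h'
  obtain ⟨x, hx⟩ := exists_mem_genLocus_of_ne_zero hL hs
  obtain ⟨y, hy⟩ := exists_mem_genLocus_of_ne_zero hM ht
  obtain ⟨z, hz⟩ := nonempty_preirreducible_inter (CohB1.genLocus L s).2 (CohB1.genLocus M t).2 ⟨x, hx⟩ ⟨y, hy⟩
  refine ⟨SecTwist.tmulHom s t, ne_zero_of_mem_genLocus (x := z) ?_⟩
  rw [genLocus_tmulHom hL hM]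
  exact hz

omit [IsIntegral X] in
/-- Cancelling an invertible factor. -/
theorem HasSec.cancel (hM : PicF.IsInvertible M) (hN : PicF.IsInvertible N) (hL : PicF.IsInvertible L)
    (h : HasSec M) (ψ : CohB1.tensorMod M L ⟶ CohB1.tensorMod N L) [Mono ψ] : HasSec N := by
  obtain ⟨s, hs⟩ := h
  obtain ⟨I, hI, ⟨ε⟩⟩ := An92.InvMod.exists_inverse hL
  let ε' : CohB1.tensorMod L I ≅ Coh.structureModule X := EGA73.tensComm L I ≪≫ ε
  have h1 : tensMap s L ≠ 0 := tensMap_ne_zero EGA73.isInvertible_structureModule hM hL hs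
  let g : L ⟶ CohB1.tensorMod N L := (EGA73.tensUnitLeft L).inv ≫ tensMap s L ≫ ψ
  have h2 : g ≠ 0 := by
    intro h0
    have h3 : tensMap s L ≫ ψ = 0 := (cancel_epi (EGA73.tensUnitLeft L).inv).1 (h0.trans comp_zero.symm)
    exact h1 ((cancel_mono ψ).1 (h3.trans zero_comp.symm))
  have h4 : tensMap g I ≠ 0 := tensMap_ne_zero hL (EGA73.isInvertible_tensorMod hN hL) hI h2
  let r : CohB1.tensorMod (CohB1.tensorMod N L) I ≅ N :=
    EGA73.tensAssoc' N L I ≪≫ EGA73.tensIso (Iso.refl N) ε' ≪≫ EGA73.tensUnitRight N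
  refine ⟨ε'.inv ≫ tensMap g I ≫ r.hom, fun h0 => h4 ?_⟩
  have h5 : tensMap g I ≫ r.hom = 0 := (cancel_epi ε'.inv).1 (h0.trans comp_zero.symm)
  exact (cancel_mono r.hom).1 (h5.trans zero_comp.symm)

end Groth.Agent.H98Pos
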