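import Groth.Agent.H98Pos.Sec
import Groth.Agent.Crv77.Sections

/-!
A big invertible module on an integral scheme has sections in all high powers.
-/

set_option autoImplicit false
set_option maxHeartbeats 400000

universe u

open CategoryTheory CategoryTheory.Limits AlgebraicGeometry Opposite TopologicalSpace

noncomputable section

namespace Groth.Agent.H98Pos

open Var76.LineBundle Var76.ZeroScheme Amp73

variable {X : Scheme.{u}} [IsIntegral X] {L H : X.Modules}

theorem exists_covering_twist (hH : CohB1.IsAmple H) (hL : PicF.IsInvertible L) :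
    ∃ n₀ : ℕ, ∀ n, n₀ ≤ n → ∀ x : X, ∃ s : Coh.structureModule X ⟶ CohB1.tensorMod L (CohB1.tensorPow H n),
      x ∈ CohB1.genLocus _ s := by
  obtain ⟨n₀, h⟩ := eventually_spanAt_twist hH (isCoh_of_isInvertible hL)
  refine ⟨n₀, fun n hn x => ?_⟩
  obtain ⟨U, hxU, hU, hspan⟩ := h n hn x
  obtain ⟨t, ht⟩ := exists_genLocus_of_spanAt
    (EGA73.isInvertible_tensorMod hL (EGA73.isInvertible_tensorPow hH.1 n)) hU hspan hxU
  exact ⟨_, ht⟩

theorem exists_forall_hasSec (hH : CohB1.IsAmple H) (hL : PicF.IsInvertible L)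
    (hbig : ∀ A : X.Modules, CohB1.IsAmple A → ∃ (m : ℕ) (φ : A ⟶ CohB1.tensorPow L m), 0 < m ∧ Mono φ) :
    ∃ m₁ : ℕ, ∀ m, m₁ ≤ m → HasSec (CohB1.tensorPow L m) := by
  obtain ⟨x⟩ := (inferInstance : Nonempty X)
  obtain ⟨n₁, h₁⟩ := exists_covering_twist hH hL
  obtain ⟨n₂, h₂⟩ := exists_covering_twist hH (EGA73.isInvertible_structureModule (X := X))
  let n := n₁ + n₂ + 1
  let C := CohB1.tensorPow H n
  have hC : PicF.IsInvertible C := EGA73.isInvertible_tensorPow hH.1 n
  have hCs : HasSec C := by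
    obtain ⟨s, hs⟩ := h₂ n (by omega) x
    exact HasSec.of_mono (f := (EGA73.tensUnitLeft C).hom) ⟨s, ne_zero_of_mem_genLocus hs⟩
  let D := CohB1.tensorMod L C
  have hD : PicF.IsInvertible D := EGA73.isInvertible_tensorMod hL hC
  have hDs : HasSec D := by
    obtain ⟨s, hs⟩ := h₁ n (by omega) x
    exact ⟨s, ne_zero_of_mem_genLocus hs⟩
  have hB : CohB1.IsAmple (CohB1.tensorMod C D) :=
    isAmple_tensor ((isAmple_tensorPow_iff hH.1 (Nat.succ_pos _)).1 hH) hD fun y => by
      obtain ⟨s, hs⟩ := h₁ n (by omega) y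
      exact ⟨_, mem_genSet_one s, hs⟩
  obtain ⟨b, ψ, hb, hψ⟩ := hbig _ hB
  obtain ⟨a, rfl⟩ := Nat.exists_eq_succ_of_ne_zero hb.ne'
  have h1 : HasSec (CohB1.tensorPow L (a + 1)) := by
    haveI := hψ
    exact HasSec.of_mono (f := ψ) (hCs.tensor hC hD hDs)
  have h0 : HasSec (CohB1.tensorPow L a) := by
    let ι : CohB1.tensorMod (CohB1.tensorMod C C) L ≅ CohB1.tensorMod C D :=
      EGA73.tensAssoc' C C L ≪≫ EGA73.tensIso (Iso.refl C) (EGA73.tensComm C L)
    haveI := hψ
    let ψ' : CohB1.tensorMod (CohB1.tensorMod C C) L ⟶ CohB1.tensorMod (CohB1.tensorPow L a) L := ι.hom ≫ ψ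
    haveI : Mono ψ' := (mono_comp _ _ : Mono (ι.hom ≫ ψ))
    exact HasSec.cancel (EGA73.isInvertible_tensorMod hC hC) (EGA73.isInvertible_tensorPow hL a) hL
      (hCs.tensor hC hC hCs) ψ'
  have hadd : ∀ i j, HasSec (CohB1.tensorPow L i) → HasSec (CohB1.tensorPow L j) →
      HasSec (CohB1.tensorPow L (i + j)) := fun i j hi hj =>
    HasSec.of_mono (f := (powAdd L i j).hom)
      (hi.tensor (EGA73.isInvertible_tensorPow hL i) (EGA73.isInvertible_tensorPow hL j) hj)
  have hmul : ∀ i, HasSec (CohB1.tensorPow L i) → ∀ k, 0 < k → HasSec (CohB1.tensorPow L (k * i)) := by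
    intro i hi k hk
    induction k, hk using Nat.le_induction with
    | base => simpa using hi
    | succ k _ ih => rw [Nat.succ_mul]; exact hadd _ _ ih hi
  refine ⟨a * a + 1, fun m hm => ?_⟩
  rcases Nat.eq_zero_or_pos a with rfl | ha
  · simpa using hmul 1 h1 m (by omega)
  have hq : a ≤ m / a := (Nat.le_div_iff_mul_le ha).2 (by omega)
  have hr : m % a < a := Nat.mod_lt m ha
  obtain ⟨d, hd⟩ : ∃ d, m / a = m % a + d ∧ 0 < d := ⟨m / a - m % a, by omega, by omega⟩
  have hm' : m = d * a + m % a * (a + 1) := by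
    conv_lhs => rw [← Nat.div_add_mod m a, hd.1]
    ring
  rw [hm']
  rcases Nat.eq_zero_or_pos (m % a) with h | h
  · rw [h, zero_mul, add_zero]
    exact hmul a h0 d hd.2
  · exact hadd _ _ (hmul a h0 d hd.2) (hmul (a + 1) h1 _ h)

omit [IsIntegral X] in
theorem nontrivial_HH_zero {M : X.Modules} (h : HasSec M) : Nontrivial (Coh.HH X M 0) := by
  obtain ⟨s, hs⟩ := h
  haveI : Nontrivial Γ(M, ⊤) := by
    refine nontrivial_of_ne (val M s ⊤) 0 fun h0 => hs ?_
    refine eq_zero_of_frames EGA73.isInvertible_structureModule s fun W e he => ?_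
    have e1 : e = (show Γ(X, W) from e) • ((1 : Γ(X, W)) : Γ(Coh.structureModule X, W)) :=
      (mul_one (show Γ(X, W) from e)).symm
    refine (congrArg (s.app W) e1).trans ((Scheme.Modules.Hom.app_smul s _ _).trans ?_)
    have hW : val M s W = 0 := by
      rw [← res_val M s (le_top : W ≤ ⊤), h0]
      exact map_zero _
    exact (congrArg (_ • ·) hW).trans (smul_zero _)
  exact (Crv77.sec M).toEquiv.nontrivial

end Groth.Agent.H98Pos
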