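import Groth.Agent.Amp73.Ample

/-!
Stable base loci of invertible modules.
-/

set_option autoImplicit false
set_option maxHeartbeats 400000

universe u

open CategoryTheory AlgebraicGeometry TopologicalSpace

namespace Groth.Agent.H98Pos

variable {X : Scheme.{u}} (L : X.Modules)

/-- The base locus of `L^m`. -/
abbrev bs (m : ℕ) : Set X :=
  {x : X | ∀ s : Coh.structureModule X ⟶ CohB1.tensorPow L m, x ∉ CohB1.genLocus (CohB1.tensorPow L m) s}

/-- The stable base locus. -/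
abbrev sbs : Set X :=
  {x : X | ∀ m : ℕ, 0 < m → ∀ s : Coh.structureModule X ⟶ CohB1.tensorPow L m,
    x ∉ CohB1.genLocus (CohB1.tensorPow L m) s}

theorem sbs_subset {m : ℕ} (hm : 0 < m) : sbs L ⊆ bs L m := fun _ hx => hx m hm

theorem mem_genSet_iff {G : X.Opens} :
    G ∈ Amp73.GenSet L ↔
      ∃ (m : ℕ) (_ : 0 < m) (s : Coh.structureModule X ⟶ CohB1.tensorPow L m), CohB1.genLocus _ s = G := by
  constructor
  · rintro ⟨n, s, hs⟩
    exact ⟨n + 1, Nat.succ_pos n, s, hs⟩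
  · rintro ⟨m, hm, s, hs⟩
    obtain ⟨n, rfl⟩ := Nat.exists_eq_succ_of_ne_zero hm.ne'
    exact ⟨n, s, hs⟩

theorem mem_sbs_iff (x : X) : x ∈ sbs L ↔ ∀ G ∈ Amp73.GenSet L, x ∉ G := by
  constructor
  · rintro hx G hG
    obtain ⟨m, hm, s, rfl⟩ := (mem_genSet_iff L).mp hG
    exact hx m hm s
  · intro hx m hm s
    exact hx _ ((mem_genSet_iff L).mpr ⟨m, hm, s, rfl⟩)

variable {L}

theorem bs_mul_subset (hL : PicF.IsInvertible L) {m N : ℕ} (hN : 0 < N) : bs L (m * N) ⊆ bs L m := by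
  intro x hx s hs
  obtain ⟨s', hs'⟩ := Amp73.exists_genLocus_pow hL s hN
  exact hx s' (hs' ▸ hs)

theorem sbs_tensorPow (hL : PicF.IsInvertible L) {p : ℕ} (hp : 0 < p) :
    sbs (CohB1.tensorPow L p) = sbs L := by
  ext x
  rw [mem_sbs_iff, mem_sbs_iff]
  exact ⟨fun h G hG => h G (Amp73.mem_genSet_tensorPow hL hp hG),
    fun h G hG => h G (Amp73.mem_genSet_of_tensorPow hp hG)⟩

theorem exists_sbs_eq_bs [NoetherianSpace X] (hL : PicF.IsInvertible L) :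
    ∃ n₀ : ℕ, 0 < n₀ ∧ ∀ k : ℕ, 0 < k → sbs L = bs L (k * n₀) := by
  let ι := Σ m : {m : ℕ // 0 < m}, (Coh.structureModule X ⟶ CohB1.tensorPow L m.1)
  let U : ι → Set X := fun i => (CohB1.genLocus _ i.2 : X.Opens)
  obtain ⟨T, hT⟩ := (NoetherianSpace.isCompact (⋃ i, U i)).elim_finite_subcover U
    (fun i => (CohB1.genLocus _ i.2).2) subset_rfl
  refine ⟨∏ i ∈ T, i.1.1, Finset.prod_pos fun i _ => i.1.2, fun k hk => ?_⟩
  refine subset_antisymm (sbs_subset L (Nat.mul_pos hk (Finset.prod_pos fun i _ => i.1.2))) ?_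
  intro x hx m hm s hs
  have hxU : x ∈ ⋃ i, U i := Set.mem_iUnion.mpr ⟨⟨⟨m, hm⟩, s⟩, hs⟩
  obtain ⟨i, hi, hxi⟩ := Set.mem_iUnion₂.mp (hT hxU)
  obtain ⟨c, hc⟩ := Finset.dvd_prod_of_mem (fun j : ι => j.1.1) hi
  have hc0 : 0 < c := by
    have hpos : 0 < ∏ j ∈ T, j.1.1 := Finset.prod_pos fun j _ => j.1.2
    rw [hc] at hpos
    exact Nat.pos_of_mul_pos_left hpos
  have : x ∈ bs L i.1.1 := by
    refine bs_mul_subset hL (Nat.mul_pos hk hc0) ?_
    convert hx using 2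
    rw [hc]
    ring
  exact this i.2 hxi

theorem minimal_iff [NoetherianSpace X] (hL : PicF.IsInvertible L) :
    (∃ m : ℕ, 0 < m ∧ bs L m = sbs L) ∧
      ∀ m : ℕ, 0 < m → ((∀ m' : ℕ, 0 < m' → bs L m' ⊆ bs L m → bs L m' = bs L m) ↔ bs L m = sbs L) := by
  obtain ⟨n₀, hn₀, h⟩ := exists_sbs_eq_bs hL
  have h1 : bs L n₀ = sbs L := by rw [h 1 one_pos, one_mul]
  refine ⟨⟨n₀, hn₀, h1⟩, fun m hm => ⟨fun hmin => ?_, fun he m' hm' hsub => ?_⟩⟩
  · rw [← hmin n₀ hn₀ (h1.le.trans (sbs_subset L hm)), h1]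
  · exact subset_antisymm hsub (he.le.trans (sbs_subset L hm'))

end Groth.Agent.H98Pos
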